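import Mathlib

set_option linter.unusedSectionVars false
set_option linter.unusedVariables false
set_option linter.unusedSimpArgs false
set_option autoImplicit false
set_option maxHeartbeats 400000

noncomputable section

namespace Groth.Agent.Lib.Helper6.Cone

variable {K : Type*} [Field K]

/-- 3×3 determinant with given rows. -/
def D3 (u v w : Fin 3 → K) : K := Matrix.det (Matrix.of ![u, v, w])

lemma D3_ne_zero {u v w : Fin 3 → K} (h : LinearIndependent K ![u, v, w]) : D3 u v w ≠ 0 := by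
  have h1 : LinearIndependent K (Matrix.of ![u, v, w]).row := h
  rw [Matrix.linearIndependent_rows_iff_isUnit, Matrix.isUnit_iff_isUnit_det] at h1
  exact h1.ne_zero

lemma det4 (c : Fin 4 → K) (v : Fin 4 → Fin 3 → K) :
    Matrix.det (Matrix.of fun i : Fin 4 => (Fin.cons (c i) (v i) : Fin 4 → K)) =
      c 0 * D3 (v 1) (v 2) (v 3) - c 1 * D3 (v 0) (v 2) (v 3)
        + c 2 * D3 (v 0) (v 1) (v 3) - c 3 * D3 (v 0) (v 1) (v 2) := by
  have e0 : ∀ (x : K) (f : Fin 3 → K), (Fin.cons x f : Fin 4 → K) 0 = x := fun _ _ => rfl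
  have e1 : ∀ (x : K) (f : Fin 3 → K), (Fin.cons x f : Fin 4 → K) 1 = f 0 := fun _ _ => rfl
  have e2 : ∀ (x : K) (f : Fin 3 → K), (Fin.cons x f : Fin 4 → K) 2 = f 1 := fun _ _ => rfl
  have e3 : ∀ (x : K) (f : Fin 3 → K), (Fin.cons x f : Fin 4 → K) 3 = f 2 := fun _ _ => rfl
  rw [Matrix.det_succ_column_zero]
  simp only [Fin.sum_univ_four, D3, Matrix.det_fin_three, Matrix.of_apply, Matrix.submatrix_apply]
  simp [Fin.succAbove, e0, e1, e2, e3]
  ring

lemma li4 {c : Fin 4 → K} {v : Fin 4 → Fin 3 → K}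
    (h : c 0 * D3 (v 1) (v 2) (v 3) - c 1 * D3 (v 0) (v 2) (v 3)
        + c 2 * D3 (v 0) (v 1) (v 3) - c 3 * D3 (v 0) (v 1) (v 2) ≠ 0) :
    LinearIndependent K (fun i : Fin 4 => (Fin.cons (c i) (v i) : Fin 4 → K)) := by
  have h1 : LinearIndependent K
      (Matrix.of fun i : Fin 4 => (Fin.cons (c i) (v i) : Fin 4 → K)).row := by
    rw [Matrix.linearIndependent_rows_iff_isUnit, Matrix.isUnit_iff_isUnit_det, det4]
    exact isUnit_iff_ne_zero.mpr h
  exact h1

end Groth.Agent.Lib.Helper6.Cone
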